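/-
Alternating and symmetric groups have no minimal cover by nilpotent subgroups.
-/
import Mathlib
import Cfsg.Agent.Lib.Frobenius.Nilpotent

set_option autoImplicit false
set_option linter.style.haveILetI false
set_option maxRecDepth 10000
set_option linter.unusedSectionVars false

open scoped Pointwise

namespace Cfsg.Agent.Lib.LAEven56.NilCover

/-- The criterion: two elements that force their nilpotent overgroups into one proper subgroup. -/
theorem no_cover {G : Type*} [Group G] [Finite G] (c c' : G) (hc1 : c ≠ 1) (hc1' : c' ≠ 1)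
    (H : Subgroup G) (hH : H ≠ ⊤)
    (hc : ∀ z g : G, z ≠ 1 → z * c = c * z → g * z = z * g → g ∈ H)
    (hc' : ∀ z g : G, z ≠ 1 → z * c' = c' * z → g * z = z * g → g ∈ H)
    (hno : ∀ z : G, z ≠ 1 → z * c = c * z → z * c' = c' * z → False) :
    ¬ ∃ 𝓐 : Finset (Subgroup G), ((∀ A ∈ 𝓐, A ≠ ⊤) ∧ (∀ g : G, ∃ A ∈ 𝓐, g ∈ A)) ∧
      (∀ 𝓑 : Finset (Subgroup G), (∀ A ∈ 𝓑, A ≠ ⊤) ∧ (∀ g : G, ∃ A ∈ 𝓑, g ∈ A) → 𝓐.card ≤ 𝓑.card) ∧
      (∀ A ∈ 𝓐, Group.IsNilpotent ↥A) := by
  classical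
  rintro ⟨𝓐, ⟨htop, hcov⟩, hmin, hnil⟩
  obtain ⟨A, hA, hcA⟩ := hcov c
  obtain ⟨A', hA', hcA'⟩ := hcov c'
  have hcentral : ∀ (B : Subgroup G), B ∈ 𝓐 → ∀ x ∈ B, x ≠ 1 →
      ∃ z : G, z ≠ 1 ∧ ∀ g ∈ B, g * z = z * g := by
    intro B hB x hx hx1
    haveI := hnil B hB
    haveI : Nontrivial B := ⟨⟨⟨x, hx⟩, 1, fun e => hx1 (congrArg Subtype.val e)⟩⟩
    obtain ⟨z, hz, hz1⟩ := (Subgroup.center B).bot_or_exists_ne_one.resolve_left
      ((Subgroup.nontrivial_iff_ne_bot _).1 (Frobenius.Nilpotent.nontrivial_center (hnil B hB)))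
    exact ⟨z, fun e => hz1 (Subtype.ext e), fun g hg =>
      congrArg Subtype.val (Subgroup.mem_center_iff.1 hz ⟨g, hg⟩)⟩
  have hle : ∀ (B : Subgroup G) (x : G), B ∈ 𝓐 → x ∈ B → x ≠ 1 →
      (∀ z g : G, z ≠ 1 → z * x = x * z → g * z = z * g → g ∈ H) → B ≤ H := by
    intro B x hB hx hx1 hyp g hg
    obtain ⟨z, hz1, hz⟩ := hcentral B hB x hx hx1
    exact hyp z g hz1 (hz x hx).symm (hz g hg)
  have hne : A ≠ A' := by
    rintro rfl
    obtain ⟨z, hz1, hz⟩ := hcentral A hA c hcA hc1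
    exact hno z hz1 (hz c hcA).symm (hz c' hcA').symm
  have h := hmin (insert H ((𝓐.erase A).erase A')) ⟨fun B hB => ?_, fun g => ?_⟩
  · have h1 : ((𝓐.erase A).erase A').card + 2 = 𝓐.card := by
      rw [Finset.card_erase_of_mem (Finset.mem_erase.2 ⟨hne.symm, hA'⟩), Finset.card_erase_of_mem hA]
      have : 1 < 𝓐.card := Finset.one_lt_card.2 ⟨A, hA, A', hA', hne⟩
      omega
    have h2 := Finset.card_insert_le H ((𝓐.erase A).erase A')
    omega
  · rcases Finset.mem_insert.1 hB with rfl | hB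
    · exact hH
    · exact htop B (Finset.mem_of_mem_erase (Finset.mem_of_mem_erase hB))
  · obtain ⟨B, hB, hg⟩ := hcov g
    by_cases hBA : B = A
    · exact ⟨H, Finset.mem_insert_self _ _, hle A c hA hcA hc1 hc (hBA ▸ hg)⟩
    by_cases hBA' : B = A'
    · exact ⟨H, Finset.mem_insert_self _ _, hle A' c' hA' hcA' hc1' hc' (hBA' ▸ hg)⟩
    exact ⟨B, Finset.mem_insert_of_mem (Finset.mem_erase.2 ⟨hBA', Finset.mem_erase.2 ⟨hBA, hB⟩⟩), hg⟩

section Cycles

variable {α : Type*} [DecidableEq α] [Fintype α]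

/-- A permutation commuting with a cycle and fixing one moved point fixes all moved points. -/
theorem fix_moved {c z : Equiv.Perm α} (hcyc : c.IsCycle) (h : z * c = c * z) {p q : α} (hp : c p ≠ p)
    (hq : c q ≠ q) (hz : z p = p) : z q = q := by
  obtain ⟨k, rfl⟩ := hcyc.exists_zpow_eq hp hq
  show z ((c ^ k) p) = (c ^ k) p
  have := Equiv.Perm.ext_iff.1 (Commute.zpow_right h k).eq p
  rw [Equiv.Perm.mul_apply, Equiv.Perm.mul_apply, hz] at this
  exact this

theorem moved_of_commute {c z : Equiv.Perm α} (h : z * c = c * z) {x : α} :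
    c (z x) = z x ↔ c x = x := by
  have := Equiv.Perm.ext_iff.1 h x
  rw [Equiv.Perm.mul_apply, Equiv.Perm.mul_apply] at this
  rw [← this]
  exact z.injective.eq_iff

theorem no_common_step {c z : Equiv.Perm α} (h : z * c = c * z) {p : α} (hp : c p ≠ p)
    (h2 : c (c p) ≠ p) (h3 : c (c (c p)) ≠ p)
    (h' : z * (Equiv.swap p (c p) * c * Equiv.swap p (c p)) =
      (Equiv.swap p (c p) * c * Equiv.swap p (c p)) * z) : z p ≠ c p := by
  intro hy
  have hcp : c (c p) ≠ c p := fun e => hp (c.injective e)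
  have e := Equiv.Perm.ext_iff.1 h' p
  have hz : ∀ x, z (c x) = c (z x) := fun x => Equiv.Perm.ext_iff.1 h x
  simp only [Equiv.Perm.mul_apply, Equiv.swap_apply_left, hy, Equiv.swap_apply_right,
    Equiv.swap_apply_of_ne_of_ne h2 hcp] at e
  rw [hz, hz, hy] at e
  exact h3 e

/-- No permutation moving a point of the cycle commutes with the cycle and its twist. -/
theorem no_common {c z : Equiv.Perm α} (h : z * c = c * z) {p : α} (hp : c p ≠ p)
    (h2 : c (c p) ≠ p) (h3 : c (c (c p)) ≠ p) (hzp : z p ≠ p)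
    (h' : z * (Equiv.swap p (c p) * c * Equiv.swap p (c p)) =
      (Equiv.swap p (c p) * c * Equiv.swap p (c p)) * z) : False := by
  have hy1 := no_common_step h hp h2 h3 h'
  have hi : z⁻¹ * c = c * z⁻¹ := (Commute.inv_left h).eq
  have hy2 := no_common_step hi hp h2 h3 (Commute.inv_left h').eq
  have hz : ∀ x, z (c x) = c (z x) := fun x => Equiv.Perm.ext_iff.1 h x
  have hcy : c (z p) ≠ p := fun e => hy2 (by
    rw [← hz p] at e
    exact Equiv.Perm.inv_eq_iff_eq.2 e.symm)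
  have hcy2 : c (z p) ≠ c p := fun e => hzp (c.injective e)
  have hcp : c (c p) ≠ c p := fun e => hp (c.injective e)
  have e := Equiv.Perm.ext_iff.1 h' p
  simp only [Equiv.Perm.mul_apply, Equiv.swap_apply_left, Equiv.swap_apply_of_ne_of_ne h2 hcp,
    Equiv.swap_apply_of_ne_of_ne hzp hy1, Equiv.swap_apply_of_ne_of_ne hcy hcy2] at e
  rw [hz, hz] at e
  exact hp ((moved_of_commute h).1 (c.injective e))

theorem twist_fix_iff {c : Equiv.Perm α} {p : α} (hp : c p ≠ p) (x : α) :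
    (Equiv.swap p (c p) * c * Equiv.swap p (c p)) x = x ↔ c x = x := by
  have hcp : c (c p) ≠ c p := fun e => hp (c.injective e)
  by_cases hx1 : x = p
  · subst hx1
    simp only [Equiv.Perm.mul_apply, Equiv.swap_apply_left, hp, iff_false]
    intro e
    have e' := congrArg (Equiv.swap x (c x)) e
    rw [Equiv.swap_apply_self, Equiv.swap_apply_left] at e'
    exact hcp e'
  by_cases hx2 : x = c p
  · subst hx2
    simp only [Equiv.Perm.mul_apply, Equiv.swap_apply_right, hcp, iff_false]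
    exact fun e => hp e.symm
  simp only [Equiv.Perm.mul_apply, Equiv.swap_apply_of_ne_of_ne hx1 hx2]
  constructor
  · intro e
    have e' := congrArg (Equiv.swap p (c p)) e
    rwa [Equiv.swap_apply_self, Equiv.swap_apply_of_ne_of_ne hx1 hx2] at e'
  · intro e
    rw [e, Equiv.swap_apply_of_ne_of_ne hx1 hx2]

theorem twist_isCycle {c : Equiv.Perm α} (hc : c.IsCycle) (p : α) :
    (Equiv.swap p (c p) * c * Equiv.swap p (c p)).IsCycle := by
  have := hc.conj (g := Equiv.swap p (c p))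
  rwa [Equiv.swap_inv] at this

/-- A permutation commuting with a cycle with one fixed point. -/
theorem one_fix {c z : Equiv.Perm α} (hc : c.IsCycle) {e : α} (he : ∀ x, c x = x ↔ x = e)
    (hz1 : z ≠ 1) (h : z * c = c * z) : ∀ x, z x = x ↔ x = e := by
  have hze : z e = e := (he _).1 ((moved_of_commute h).2 ((he e).2 rfl))
  intro x
  refine ⟨fun hx => ?_, fun hx => hx ▸ hze⟩
  by_contra hxe
  refine hz1 (Equiv.ext fun y => ?_)
  by_cases hye : y = e
  · rw [hye]; exact hze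
  · exact fix_moved hc h (fun e' => hxe ((he x).1 e')) (fun e' => hye ((he y).1 e')) hx

/-- An even permutation commuting with a cycle with two fixed points. -/
theorem two_fix {c z : Equiv.Perm α} (hc : c.IsCycle) {a b : α} (hab : a ≠ b)
    (he : ∀ x, c x = x ↔ x = a ∨ x = b) (hodd : ¬ 2 ∣ orderOf c) (hz1 : z ≠ 1)
    (heven : Equiv.Perm.sign z = 1) (h : z * c = c * z) :
    ∃ w : Equiv.Perm α, (w = z ∨ w = z * z) ∧ ∀ x, w x = x ↔ x = a ∨ x = b := by
  have hpres : ∀ {u : Equiv.Perm α}, u * c = c * u → ∀ x, (x = a ∨ x = b) → (u x = a ∨ u x = b) :=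
    fun hu x hx => (he _).1 ((moved_of_commute hu).2 ((he x).2 hx))
  have hmain : ∀ {u : Equiv.Perm α}, u * c = c * u → (u a = a ∧ u b = b) → u ≠ 1 →
      ∀ x, u x = x ↔ x = a ∨ x = b := by
    intro u hu hfix hu1 x
    refine ⟨fun hx => ?_, ?_⟩
    · by_contra hxe
      refine hu1 (Equiv.ext fun y => ?_)
      by_cases hye : y = a ∨ y = b
      · rcases hye with rfl | rfl
        exacts [hfix.1, hfix.2]
      · exact fix_moved hc hu (fun e' => hxe ((he x).1 e')) (fun e' => hye ((he y).1 e')) hx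
    · rintro (rfl | rfl)
      exacts [hfix.1, hfix.2]
  by_cases hfix : z a = a
  · refine ⟨z, Or.inl rfl, hmain h ⟨hfix, ?_⟩ hz1⟩
    rcases hpres h b (Or.inr rfl) with e | e
    · exact absurd (z.injective (hfix.trans e.symm)) hab
    · exact e
  · have hza : z a = b := (hpres h a (Or.inl rfl)).resolve_left hfix
    have hzb : z b = a := by
      rcases hpres h b (Or.inr rfl) with e | e
      · exact e
      · exact absurd (z.injective (hza.trans e.symm)) hab
    have h2 : z * z * c = c * (z * z) := by rw [mul_assoc, h, ← mul_assoc, h, mul_assoc]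
    refine ⟨z * z, Or.inr rfl, hmain h2 ⟨?_, ?_⟩ fun hzz => ?_⟩
    · rw [Equiv.Perm.mul_apply, hza, hzb]
    · rw [Equiv.Perm.mul_apply, hzb, hza]
    · -- an involution commuting with an odd cycle
      have hsw : z = Equiv.swap a b := by
        refine Equiv.ext fun y => ?_
        by_cases hya : y = a
        · rw [hya, hza, Equiv.swap_apply_left]
        by_cases hyb : y = b
        · rw [hyb, hzb, Equiv.swap_apply_right]
        rw [Equiv.swap_apply_of_ne_of_ne hya hyb]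
        have hy : c y ≠ y := fun e => by
          rcases (he y).1 e with e' | e'
          exacts [hya e', hyb e']
        have hzy : c (z y) ≠ z y := fun e => hy ((moved_of_commute h).1 e)
        obtain ⟨k, hk⟩ := hc.exists_zpow_eq hy hzy
        have hcomm : z * c ^ k = c ^ k * z := (Commute.zpow_right h k).eq
        have e2 : (c ^ k) ((c ^ k) y) = y := by
          rw [hk, ← hk]
          have := Equiv.Perm.ext_iff.1 hcomm y
          rw [Equiv.Perm.mul_apply, Equiv.Perm.mul_apply, hk] at this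
          rw [hk, ← this, ← Equiv.Perm.mul_apply, hzz, Equiv.Perm.one_apply]
        by_contra hne
        have e3 : (c ^ (k + k)) y = y := by rw [_root_.zpow_add, Equiv.Perm.mul_apply]; exact e2
        have e4 : c ^ (k + k) = 1 := by
          refine Equiv.ext fun w => ?_
          by_cases hw : c w = w
          · exact Equiv.Perm.zpow_apply_eq_self_of_apply_eq_self hw _
          · exact fix_moved hc ((Commute.refl c).zpow_left _).eq hy hw e3
        have e5 : ((orderOf c : ℕ) : ℤ) ∣ k := by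
          have hd := orderOf_dvd_iff_zpow_eq_one.2 e4
          rw [← two_mul] at hd
          exact (Int.isCoprime_iff_nat_coprime.2 (by
            simpa [Nat.coprime_comm] using (Nat.prime_two.coprime_iff_not_dvd.2 hodd))).dvd_of_dvd_mul_left hd
        rw [orderOf_dvd_iff_zpow_eq_one.1 e5] at hk
        exact hne hk.symm
      rw [hsw, Equiv.Perm.sign_swap hab] at heven
      exact absurd heven (by decide)

end Cycles

/-- The standard cycle. -/
theorem range_cycle (N i : ℕ) (hi : i < N) (hi3 : 3 ≤ i) :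
    ∃ c : Equiv.Perm (Fin N), c.IsCycle ∧ orderOf c = i + 1 ∧ Equiv.Perm.sign c = (-1) ^ i ∧
      (∀ x : Fin N, c x = x ↔ i < (x : ℕ)) ∧ ∀ x : Fin N, (x : ℕ) ≤ i →
        c (c x) ≠ x ∧ c (c (c x)) ≠ x := by
  haveI : NeZero N := ⟨by omega⟩
  let j : Fin N := ⟨i, hi⟩
  have hj : j ≠ 0 := fun e => by
    have := congrArg Fin.val e
    simp [j] at this
    omega
  have hc : (Fin.cycleRange j).IsCycle := Fin.isCycle_cycleRange hj
  have hord : orderOf (Fin.cycleRange j) = i + 1 := by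
    rw [← Equiv.Perm.lcm_cycleType, Fin.cycleType_cycleRange hj]
    simp [j]
  have hfix : ∀ x : Fin N, Fin.cycleRange j x = x ↔ i < (x : ℕ) := by
    intro x
    constructor
    · intro e
      by_contra hx
      push Not at hx
      have hle : x ≤ j := hx
      have h := congrArg Fin.val e
      rw [Fin.coe_cycleRange_of_le hle] at h
      split_ifs at h with hxj
      · have := congrArg Fin.val hxj
        simp [j] at this
        omega
      · omega
    · exact fun hx => Fin.cycleRange_of_gt hx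
  refine ⟨Fin.cycleRange j, hc, hord, Fin.sign_cycleRange j, hfix, fun x hx => ?_⟩
  have key : ∀ k : ℕ, 0 < k → k ≤ 3 → (Fin.cycleRange j ^ k) x ≠ x := by
    intro k hk0 hk3 e
    have hmv : Fin.cycleRange j x ≠ x := fun e' => by have := (hfix x).1 e'; omega
    have : Fin.cycleRange j ^ k = 1 := by
      refine Equiv.ext fun w => ?_
      by_cases hw : Fin.cycleRange j w = w
      · exact Equiv.Perm.pow_apply_eq_self_of_apply_eq_self hw k
      · exact fix_moved hc (Commute.self_pow _ k).symm.eq hmv hw e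
    have := Nat.le_of_dvd hk0 (orderOf_dvd_of_pow_eq_one this)
    omega
  exact ⟨fun e => key 2 (by omega) (by omega) (by rw [pow_two, Equiv.Perm.mul_apply]; exact e),
    fun e => key 3 (by omega) (by omega)
      (by rw [pow_succ, pow_two, Equiv.Perm.mul_apply, Equiv.Perm.mul_apply]; exact e)⟩

theorem perm_no_cover (n : ℕ) (hn : 5 ≤ n) :
    ¬ ∃ 𝓐 : Finset (Subgroup (Equiv.Perm (Fin n))), ((∀ A ∈ 𝓐, A ≠ ⊤) ∧
      (∀ g : Equiv.Perm (Fin n), ∃ A ∈ 𝓐, g ∈ A)) ∧
      (∀ 𝓑 : Finset (Subgroup (Equiv.Perm (Fin n))), (∀ A ∈ 𝓑, A ≠ ⊤) ∧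
        (∀ g : Equiv.Perm (Fin n), ∃ A ∈ 𝓑, g ∈ A) → 𝓐.card ≤ 𝓑.card) ∧
      (∀ A ∈ 𝓐, Group.IsNilpotent ↥A) := by
  obtain ⟨c, hc, -, -, hfix, hstep⟩ := range_cycle n (n - 2) (by omega) (by omega)
  let e : Fin n := ⟨n - 1, by omega⟩
  let p : Fin n := ⟨0, by omega⟩
  have he : ∀ x, c x = x ↔ x = e := fun x => by
    rw [hfix x, Fin.ext_iff]
    have := x.isLt
    show _ ↔ (x : ℕ) = n - 1
    omega
  have hp : c p ≠ p := fun e' => by have := (hfix p).1 e'; simp [p] at this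
  have hd : ∀ x, (Equiv.swap p (c p) * c * Equiv.swap p (c p)) x = x ↔ x = e := fun x =>
    (twist_fix_iff hp x).trans (he x)
  have hne1 : ∀ {f : Equiv.Perm (Fin n)}, (∀ x, f x = x ↔ x = e) → f ≠ 1 := fun hf e1 => by
    have h := congrArg Fin.val ((hf p).1 (by rw [e1]; rfl))
    simp [p, e] at h
    omega
  have hH : ∀ {f : Equiv.Perm (Fin n)}, f.IsCycle → (∀ x, f x = x ↔ x = e) →
      ∀ z g : Equiv.Perm (Fin n), z ≠ 1 → z * f = f * z → g * z = z * g →
        g ∈ MulAction.stabilizer (Equiv.Perm (Fin n)) e := by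
    intro f hf hfe z g hz1 hzf hgz
    have hz := one_fix hf hfe hz1 hzf
    show g e = e
    exact (hz _).1 ((moved_of_commute hgz).2 ((hz e).2 rfl))
  refine no_cover c (Equiv.swap p (c p) * c * Equiv.swap p (c p)) (hne1 he) (hne1 hd)
    (MulAction.stabilizer _ e) ?_ (hH hc he) (hH (twist_isCycle hc p) hd) ?_
  · intro h
    have : Equiv.swap e p ∈ MulAction.stabilizer (Equiv.Perm (Fin n)) e := by
      rw [h]; exact Subgroup.mem_top _
    have h2 : Equiv.swap e p e = e := this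
    rw [Equiv.swap_apply_left] at h2
    have h := congrArg Fin.val h2
    simp [p, e] at h
    omega
  · intro z hz1 h h'
    have hzp : z p ≠ p := fun e1 => hp ((he p).2 ((one_fix hc he hz1 h p).1 e1))
    exact no_common h hp (hstep p (by simp [p])).1 (hstep p (by simp [p])).2 hzp h'

theorem alt_no_cover (n : ℕ) (hn : 6 ≤ n) :
    ¬ ∃ 𝓐 : Finset (Subgroup ↥(alternatingGroup (Fin n))), ((∀ A ∈ 𝓐, A ≠ ⊤) ∧
      (∀ g : ↥(alternatingGroup (Fin n)), ∃ A ∈ 𝓐, g ∈ A)) ∧
      (∀ 𝓑 : Finset (Subgroup ↥(alternatingGroup (Fin n))), (∀ A ∈ 𝓑, A ≠ ⊤) ∧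
        (∀ g : ↥(alternatingGroup (Fin n)), ∃ A ∈ 𝓑, g ∈ A) → 𝓐.card ≤ 𝓑.card) ∧
      (∀ A ∈ 𝓐, Group.IsNilpotent ↥A) := by
  rcases Nat.even_or_odd n with hpar | hpar
  · -- one fixed point
    obtain ⟨c, hc, -, hsgn, hfix, hstep⟩ := range_cycle n (n - 2) (by omega) (by omega)
    let e : Fin n := ⟨n - 1, by omega⟩
    let p : Fin n := ⟨0, by omega⟩
    have hev : Even (n - 2) := by
      obtain ⟨k, rfl⟩ := hpar; exact ⟨k - 1, by omega⟩
    rw [hev.neg_one_pow] at hsgn
    have he : ∀ x, c x = x ↔ x = e := fun x => by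
      rw [hfix x, Fin.ext_iff]
      have := x.isLt
      show _ ↔ (x : ℕ) = n - 1
      omega
    have hp : c p ≠ p := fun e' => by have := (hfix p).1 e'; simp [p] at this
    have hd : ∀ x, (Equiv.swap p (c p) * c * Equiv.swap p (c p)) x = x ↔ x = e := fun x =>
      (twist_fix_iff hp x).trans (he x)
    have hcA : c ∈ alternatingGroup (Fin n) := Equiv.Perm.mem_alternatingGroup.2 hsgn
    have hdA : Equiv.swap p (c p) * c * Equiv.swap p (c p) ∈ alternatingGroup (Fin n) :=
      Equiv.Perm.mem_alternatingGroup.2 (by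
        rw [map_mul, map_mul, Equiv.Perm.sign_swap hp.symm, hsgn]; decide)
    have hne1 : ∀ {f : ↥(alternatingGroup (Fin n))}, (∀ x, (f : Equiv.Perm (Fin n)) x = x ↔ x = e) →
        f ≠ 1 := fun hf e1 => by
      have h := congrArg Fin.val ((hf p).1 (by rw [e1]; rfl))
      simp [p, e] at h
      omega
    have hH : ∀ {f : ↥(alternatingGroup (Fin n))}, (f : Equiv.Perm (Fin n)).IsCycle →
        (∀ x, (f : Equiv.Perm (Fin n)) x = x ↔ x = e) →
        ∀ z g : ↥(alternatingGroup (Fin n)), z ≠ 1 → z * f = f * z → g * z = z * g →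
          g ∈ MulAction.stabilizer ↥(alternatingGroup (Fin n)) e := by
      intro f hf hfe z g hz1 hzf hgz
      have hz := one_fix hf hfe (fun e1 => hz1 (Subtype.ext e1)) (congrArg Subtype.val hzf)
      show (g : Equiv.Perm (Fin n)) e = e
      exact (hz _).1 ((moved_of_commute (congrArg Subtype.val hgz)).2 ((hz e).2 rfl))
    refine no_cover ⟨c, hcA⟩ ⟨_, hdA⟩ (hne1 he) (hne1 hd) (MulAction.stabilizer _ e) ?_
      (hH hc he) (hH (twist_isCycle hc p) hd) ?_
    · intro h
      let q : Fin n := ⟨1, by omega⟩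
      let r : Fin n := ⟨2, by omega⟩
      have hm : Equiv.swap p e * Equiv.swap q r ∈ alternatingGroup (Fin n) :=
        Equiv.Perm.mem_alternatingGroup.2 (by
          rw [map_mul, Equiv.Perm.sign_swap (by simp [p, e, Fin.ext_iff]; omega),
            Equiv.Perm.sign_swap (by simp [q, r, Fin.ext_iff])]; decide)
      have : (⟨_, hm⟩ : ↥(alternatingGroup (Fin n))) ∈ MulAction.stabilizer _ e := by
        rw [h]; exact Subgroup.mem_top _
      have h2 : Equiv.swap p e (Equiv.swap q r e) = e := this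
      rw [Equiv.swap_apply_of_ne_of_ne (show e ≠ q by simp [q, e, Fin.ext_iff]; omega)
        (show e ≠ r by simp [r, e, Fin.ext_iff]; omega), Equiv.swap_apply_right] at h2
      have h := congrArg Fin.val h2
      simp [p, e] at h
      omega
    · intro z hz1 h h'
      have h0 := congrArg Subtype.val h
      have hzp : (z : Equiv.Perm (Fin n)) p ≠ p := fun e1 =>
        hp ((he p).2 ((one_fix hc he (fun e2 => hz1 (Subtype.ext e2)) h0 p).1 e1))
      exact no_common h0 hp (hstep p (by simp [p])).1 (hstep p (by simp [p])).2 hzp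
        (congrArg Subtype.val h')
  · -- two fixed points
    obtain ⟨c, hc, hord, hsgn, hfix, hstep⟩ := range_cycle n (n - 3) (by omega) (by omega)
    let a : Fin n := ⟨n - 2, by omega⟩
    let b : Fin n := ⟨n - 1, by omega⟩
    let p : Fin n := ⟨0, by omega⟩
    have hab : a ≠ b := by simp [a, b, Fin.ext_iff]; omega
    have hev : Even (n - 3) := by
      obtain ⟨k, rfl⟩ := hpar; exact ⟨k - 1, by omega⟩
    rw [hev.neg_one_pow] at hsgn
    have he : ∀ x, c x = x ↔ x = a ∨ x = b := fun x => by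
      rw [hfix x, Fin.ext_iff, Fin.ext_iff]
      have := x.isLt
      show _ ↔ (x : ℕ) = n - 2 ∨ (x : ℕ) = n - 1
      omega
    have hp : c p ≠ p := fun e' => by have := (hfix p).1 e'; simp [p] at this
    have hodd : ¬ 2 ∣ orderOf c := by
      rw [hord]; obtain ⟨k, hk⟩ := hev; omega
    have hd : ∀ x, (Equiv.swap p (c p) * c * Equiv.swap p (c p)) x = x ↔ x = a ∨ x = b := fun x =>
      (twist_fix_iff hp x).trans (he x)
    have hcA : c ∈ alternatingGroup (Fin n) := Equiv.Perm.mem_alternatingGroup.2 hsgn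
    have hdA : Equiv.swap p (c p) * c * Equiv.swap p (c p) ∈ alternatingGroup (Fin n) :=
      Equiv.Perm.mem_alternatingGroup.2 (by
        rw [map_mul, map_mul, Equiv.Perm.sign_swap hp.symm, hsgn]; decide)
    have hoddd : ¬ 2 ∣ orderOf (Equiv.swap p (c p) * c * Equiv.swap p (c p)) := by
      have := (MulEquiv.orderOf_eq (MulAut.conj (Equiv.swap p (c p))) c)
      rw [MulAut.conj_apply, Equiv.swap_inv] at this
      rwa [this]
    have hpab : ¬ (p = a ∨ p = b) := by simp [p, a, b, Fin.ext_iff]; omega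
    have hne1 : ∀ {f : ↥(alternatingGroup (Fin n))},
        (∀ x, (f : Equiv.Perm (Fin n)) x = x ↔ x = a ∨ x = b) → f ≠ 1 := fun hf e1 =>
      hpab ((hf p).1 (by rw [e1]; rfl))
    let H : Subgroup ↥(alternatingGroup (Fin n)) :=
      MulAction.stabilizer ↥(alternatingGroup (Fin n)) ({a, b} : Finset (Fin n)) 
    have hH : ∀ {f : ↥(alternatingGroup (Fin n))}, (f : Equiv.Perm (Fin n)).IsCycle →
        ¬ 2 ∣ orderOf (f : Equiv.Perm (Fin n)) →
        (∀ x, (f : Equiv.Perm (Fin n)) x = x ↔ x = a ∨ x = b) →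
        ∀ z g : ↥(alternatingGroup (Fin n)), z ≠ 1 → z * f = f * z → g * z = z * g →
          ((g : Equiv.Perm (Fin n)) a = a ∨ (g : Equiv.Perm (Fin n)) a = b) ∧
          ((g : Equiv.Perm (Fin n)) b = a ∨ (g : Equiv.Perm (Fin n)) b = b) := by
      intro f hf hfo hfe z g hz1 hzf hgz
      obtain ⟨w, hw, hwe⟩ := two_fix hf hab hfe hfo (fun e1 => hz1 (Subtype.ext e1))
        (Equiv.Perm.mem_alternatingGroup.1 z.2) (congrArg Subtype.val hzf)
      have hg0 : (g : Equiv.Perm (Fin n)) * (z : Equiv.Perm (Fin n)) = z * g :=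
        congrArg Subtype.val hgz
      have hgw : (g : Equiv.Perm (Fin n)) * w = w * g := by
        rcases hw with rfl | rfl
        · exact hg0
        · rw [← mul_assoc, hg0, mul_assoc, hg0, mul_assoc]
      exact ⟨(hwe _).1 ((moved_of_commute hgw).2 ((hwe a).2 (Or.inl rfl))),
        (hwe _).1 ((moved_of_commute hgw).2 ((hwe b).2 (Or.inr rfl)))⟩
    have hmemH : ∀ g : ↥(alternatingGroup (Fin n)),
        (((g : Equiv.Perm (Fin n)) a = a ∨ (g : Equiv.Perm (Fin n)) a = b) ∧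
          ((g : Equiv.Perm (Fin n)) b = a ∨ (g : Equiv.Perm (Fin n)) b = b)) → g ∈ H := by
      intro g hg
      show g • ({a, b} : Finset (Fin n)) = {a, b}
      refine Finset.eq_of_subset_of_card_le ?_ (by rw [Finset.card_smul_finset])
      intro x hx
      rw [Finset.mem_smul_finset] at hx
      obtain ⟨y, hy, rfl⟩ := hx
      simp only [Finset.mem_insert, Finset.mem_singleton] at hy ⊢
      rcases hy with rfl | rfl
      exacts [hg.1, hg.2]
    refine no_cover ⟨c, hcA⟩ ⟨_, hdA⟩ (hne1 he) (hne1 hd) H ?_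
      (fun z g h1 h2 h3 => hmemH g (hH (f := ⟨c, hcA⟩) hc hodd he z g h1 h2 h3))
      (fun z g h1 h2 h3 => hmemH g (hH (f := ⟨_, hdA⟩) (twist_isCycle hc p) hoddd hd z g h1 h2 h3)) ?_
    · intro h
      let q : Fin n := ⟨1, by omega⟩
      let r : Fin n := ⟨2, by omega⟩
      have hm : Equiv.swap p a * Equiv.swap q r ∈ alternatingGroup (Fin n) :=
        Equiv.Perm.mem_alternatingGroup.2 (by
          rw [map_mul, Equiv.Perm.sign_swap (by simp [p, a, Fin.ext_iff]; omega),
            Equiv.Perm.sign_swap (by simp [q, r, Fin.ext_iff])]; decide)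
      have : (⟨_, hm⟩ : ↥(alternatingGroup (Fin n))) ∈ H := by rw [h]; exact Subgroup.mem_top _
      have h2 : (Equiv.swap p a * Equiv.swap q r) a ∈ ({a, b} : Finset (Fin n)) := by
        have h3 : (⟨_, hm⟩ : ↥(alternatingGroup (Fin n))) • ({a, b} : Finset (Fin n)) = {a, b} := this
        rw [← h3]
        exact Finset.smul_mem_smul_finset (Finset.mem_insert_self a _)
      rw [Equiv.Perm.mul_apply, Equiv.swap_apply_of_ne_of_ne (show a ≠ q by simp [q, a, Fin.ext_iff]; omega)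
        (show a ≠ r by simp [r, a, Fin.ext_iff]; omega), Equiv.swap_apply_right, Finset.mem_insert,
        Finset.mem_singleton] at h2
      exact hpab h2
    · intro z hz1 h h'
      have h0 := congrArg Subtype.val h
      obtain ⟨w, hw, hwe⟩ := two_fix hc hab he hodd (fun e1 => hz1 (Subtype.ext e1))
        (Equiv.Perm.mem_alternatingGroup.1 z.2) h0
      have hwc : w * c = c * w ∧ w * (Equiv.swap p (c p) * c * Equiv.swap p (c p)) =
          (Equiv.swap p (c p) * c * Equiv.swap p (c p)) * w := by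
        have h0' : (z : Equiv.Perm (Fin n)) * (Equiv.swap p (c p) * c * Equiv.swap p (c p)) =
            (Equiv.swap p (c p) * c * Equiv.swap p (c p)) * z := congrArg Subtype.val h'
        rcases hw with rfl | rfl
        · exact ⟨h0, h0'⟩
        · exact ⟨(Commute.mul_left h0 h0).eq, (Commute.mul_left h0' h0').eq⟩
      exact no_common hwc.1 hp (hstep p (by simp [p])).1 (hstep p (by simp [p])).2
        (fun e1 => hpab ((hwe p).1 e1)) hwc.2

theorem alt_five : ¬ ∃ 𝓐 : Finset (Subgroup ↥(alternatingGroup (Fin 5))), ((∀ A ∈ 𝓐, A ≠ ⊤) ∧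
    (∀ g : ↥(alternatingGroup (Fin 5)), ∃ A ∈ 𝓐, g ∈ A)) ∧
    (∀ 𝓑 : Finset (Subgroup ↥(alternatingGroup (Fin 5))), (∀ A ∈ 𝓑, A ≠ ⊤) ∧
      (∀ g : ↥(alternatingGroup (Fin 5)), ∃ A ∈ 𝓑, g ∈ A) → 𝓐.card ≤ 𝓑.card) ∧
    (∀ A ∈ 𝓐, Group.IsNilpotent ↥A) := by
  let c : ↥(alternatingGroup (Fin 5)) := ⟨Equiv.swap 0 1 * Equiv.swap 1 2,
    Equiv.Perm.mem_alternatingGroup.2 (by decide +kernel)⟩
  let c' : ↥(alternatingGroup (Fin 5)) := ⟨Equiv.swap 0 1 * Equiv.swap 1 3,
    Equiv.Perm.mem_alternatingGroup.2 (by decide +kernel)⟩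
  let H : Subgroup ↥(alternatingGroup (Fin 5)) := MulAction.stabilizer _ (4 : Fin 5)
  have e : ∀ z g : ↥(alternatingGroup (Fin 5)), z ≠ 1 → z * c = c * z → g * z = z * g →
      (g : Equiv.Perm (Fin 5)) 4 = 4 := by decide +kernel
  have e' : ∀ z g : ↥(alternatingGroup (Fin 5)), z ≠ 1 → z * c' = c' * z → g * z = z * g →
      (g : Equiv.Perm (Fin 5)) 4 = 4 := by decide +kernel
  refine no_cover c c' (by decide +kernel) (by decide +kernel) H ?_ e e'
    (by decide +kernel : ∀ z : ↥(alternatingGroup (Fin 5)), z ≠ 1 → z * c = c * z →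
      z * c' = c' * z → False)
  intro h
  have hm : (⟨Equiv.swap 3 4 * Equiv.swap 0 1, Equiv.Perm.mem_alternatingGroup.2 (by decide +kernel)⟩ :
      ↥(alternatingGroup (Fin 5))) ∈ H := by rw [h]; exact Subgroup.mem_top _
  exact absurd (show (Equiv.swap 3 4 * Equiv.swap 0 1 : Equiv.Perm (Fin 5)) 4 = 4 from hm) (by decide)

theorem perm_four : ¬ ∃ 𝓐 : Finset (Subgroup (Equiv.Perm (Fin 4))), ((∀ A ∈ 𝓐, A ≠ ⊤) ∧
    (∀ g : Equiv.Perm (Fin 4), ∃ A ∈ 𝓐, g ∈ A)) ∧
    (∀ 𝓑 : Finset (Subgroup (Equiv.Perm (Fin 4))), (∀ A ∈ 𝓑, A ≠ ⊤) ∧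
      (∀ g : Equiv.Perm (Fin 4), ∃ A ∈ 𝓑, g ∈ A) → 𝓐.card ≤ 𝓑.card) ∧
    (∀ A ∈ 𝓐, Group.IsNilpotent ↥A) := by
  let c : Equiv.Perm (Fin 4) := Equiv.swap 0 1 * Equiv.swap 1 2
  let c' : Equiv.Perm (Fin 4) := Equiv.swap 0 1 * Equiv.swap 1 3
  have e : ∀ z g : Equiv.Perm (Fin 4), z ≠ 1 → z * c = c * z → g * z = z * g →
      Equiv.Perm.sign g = 1 := by decide +kernel
  have e' : ∀ z g : Equiv.Perm (Fin 4), z ≠ 1 → z * c' = c' * z → g * z = z * g →
      Equiv.Perm.sign g = 1 := by decide +kernel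
  refine no_cover c c' (by decide +kernel) (by decide +kernel) (alternatingGroup (Fin 4)) ?_
    (fun z g h1 h2 h3 => Equiv.Perm.mem_alternatingGroup.2 (e z g h1 h2 h3))
    (fun z g h1 h2 h3 => Equiv.Perm.mem_alternatingGroup.2 (e' z g h1 h2 h3))
    (by decide +kernel : ∀ z : Equiv.Perm (Fin 4), z ≠ 1 → z * c = c * z → z * c' = c' * z → False)
  intro h
  have hm : Equiv.swap (0 : Fin 4) 1 ∈ alternatingGroup (Fin 4) := by rw [h]; exact Subgroup.mem_top _
  exact absurd (Equiv.Perm.mem_alternatingGroup.1 hm) (by decide)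

/-- The statement. -/
theorem no_nilpotent_minimal_cover (n : ℕ) :
    (5 ≤ n → ¬ ∃ 𝓐 : Finset (Subgroup ↥(alternatingGroup (Fin n))), ((∀ A ∈ 𝓐, A ≠ ⊤) ∧
      (∀ g : ↥(alternatingGroup (Fin n)), ∃ A ∈ 𝓐, g ∈ A)) ∧
      (∀ 𝓑 : Finset (Subgroup ↥(alternatingGroup (Fin n))), (∀ A ∈ 𝓑, A ≠ ⊤) ∧
        (∀ g : ↥(alternatingGroup (Fin n)), ∃ A ∈ 𝓑, g ∈ A) → 𝓐.card ≤ 𝓑.card) ∧
      (∀ A ∈ 𝓐, Group.IsNilpotent ↥A)) ∧
    (4 ≤ n → ¬ ∃ 𝓐 : Finset (Subgroup (Equiv.Perm (Fin n))), ((∀ A ∈ 𝓐, A ≠ ⊤) ∧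
      (∀ g : Equiv.Perm (Fin n), ∃ A ∈ 𝓐, g ∈ A)) ∧
      (∀ 𝓑 : Finset (Subgroup (Equiv.Perm (Fin n))), (∀ A ∈ 𝓑, A ≠ ⊤) ∧
        (∀ g : Equiv.Perm (Fin n), ∃ A ∈ 𝓑, g ∈ A) → 𝓐.card ≤ 𝓑.card) ∧
      (∀ A ∈ 𝓐, Group.IsNilpotent ↥A)) := by
  refine ⟨fun h => ?_, fun h => ?_⟩
  · by_cases h5 : n = 5
    · subst h5; exact alt_five
    · exact alt_no_cover n (by omega)
  · by_cases h4 : n = 4
    · subst h4; exact perm_four
    · exact perm_no_cover n (by omega)

end Cfsg.Agent.Lib.LAEven56.NilCover
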