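import Mathlib.GroupTheory.GroupAction.MultipleTransitivity
import Mathlib.GroupTheory.GroupAction.Quotient
import Mathlib.GroupTheory.GroupAction.Period
import Mathlib.Data.ZMod.Basic
import Mathlib.GroupTheory.Perm.Subgroup
import Mathlib.Data.Fintype.Perm

/-! No faithful doubly transitive action of a group with the arithmetic and local
elements of the Tits group. -/

set_option autoImplicit false
set_option linter.unusedSectionVars false

namespace Cfsg.Agent.Lib.LAEven56.TitsAction

open MulAction

/-- Degrees allowed by the order alone. -/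
theorem degrees {d : ℕ} (h3 : 3 ≤ d) (h1 : d * (d - 1) ∣ 35942400) (h2 : 17971200 ∣ d.factorial) :
    d = 16 ∨ d = 25 ∨ d = 26 ∨ d = 27 ∨ d = 40 ∨ d = 65 := by
  have hlt : d < 6000 := by
    by_contra h
    have : 6000 * 5999 ≤ d * (d - 1) := Nat.mul_le_mul (by omega) (by omega)
    have := Nat.le_of_dvd (by norm_num) h1
    omega
  have key : (List.range 6000).all (fun d => decide (d < 3) || !Nat.beq (35942400 % (d * (d - 1))) 0 ||
      [3, 4, 5, 6, 9, 10, 13, 16, 25, 26, 27, 40, 65].contains d) = true := by decide +kernel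
  have h := List.all_eq_true.1 key d (List.mem_range.2 hlt)
  simp only [Bool.or_eq_true, decide_eq_true_eq, Bool.not_eq_true', List.contains_iff_mem] at h
  rcases h with (h | h) | h
  · omega
  · rw [Nat.mod_eq_zero_of_dvd h1] at h; exact absurd h (by decide)
  · simp only [List.mem_cons, List.not_mem_nil, or_false] at h
    have hsmall : d ≤ 13 → False := fun hd => by
      have : 17971200 ∣ Nat.factorial 13 := h2.trans (Nat.factorial_dvd_factorial hd)
      exact absurd this (by decide +kernel)
    rcases h with h | h | h | h | h | h | h | h | h | h | h | h | h <;>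
      first | omega | exact (hsmall (by omega)).elim

variable {T : Type*} [Group T] [Finite T] {Ω : Type*} [Fintype Ω] [MulAction T Ω]

open Classical in
/-- An invariant set on which an element of prime-power order moves every point by every
nontrivial power has cardinality divisible by the order. -/
theorem dvd_card_of_free (g : T) (n : ℕ) (hg : g ^ n = 1) (S : Finset Ω)
    (hS : ∀ s ∈ S, g • s ∈ S) (hfree : ∀ s ∈ S, MulAction.period g s = n) : n ∣ S.card := by
  induction S using Finset.strongInduction with
  | _ S ih =>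
    by_cases hne : S.Nonempty
    · obtain ⟨s, hs⟩ := hne
      let O : Finset Ω := (Finset.range n).image fun i => g ^ i • s
      have hmem : ∀ i, g ^ i • s ∈ S := by
        intro i
        induction i with
        | zero => simpa using hs
        | succ i hi => rw [pow_succ', mul_smul]; exact hS _ hi
      have hOS : O ⊆ S := fun y hy => by
        obtain ⟨i, -, rfl⟩ := Finset.mem_image.1 hy
        exact hmem i
      have hOcard : O.card = n := by
        rw [Finset.card_image_of_injOn, Finset.card_range]
        intro i hi j hj e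
        simp only [Finset.coe_range, Set.mem_Iio] at hi hj
        wlog hij : i ≤ j generalizing i j
        · exact (this e.symm hj hi (by omega)).symm
        have e' : g ^ (j - i) • s = s := by
          apply MulAction.injective (g ^ i)
          show g ^ i • (g ^ (j - i) • s) = g ^ i • s
          rw [← mul_smul, ← pow_add, Nat.add_sub_cancel' hij]
          exact e.symm
        have := MulAction.pow_smul_eq_iff_period_dvd.1 e'
        rw [hfree s hs] at this
        have := Nat.eq_zero_of_dvd_of_lt this (by omega)
        omega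
      have hn : 0 < n := by
        rw [← hfree s hs]; exact MulAction.period_pos_of_orderOf_pos (orderOf_pos g) s
      have hOne : O.Nonempty := Finset.card_pos.1 (by omega)
      have hrec : n ∣ (S \ O).card := by
        refine ih _ (Finset.sdiff_ssubset hOS hOne) ?_ fun y hy => hfree y (Finset.mem_sdiff.1 hy).1
        intro y hy
        obtain ⟨hyS, hyO⟩ := Finset.mem_sdiff.1 hy
        refine Finset.mem_sdiff.2 ⟨hS y hyS, fun hgy => hyO ?_⟩
        obtain ⟨i, hi, e⟩ := Finset.mem_image.1 hgy
        rw [Finset.mem_range] at hi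
        refine Finset.mem_image.2 ⟨(i + (n - 1)) % n, Finset.mem_range.2 (Nat.mod_lt _ hn), ?_⟩
        apply MulAction.injective g
        show g • (g ^ ((i + (n - 1)) % n) • s) = g • y
        rw [← e, ← mul_smul, ← pow_eq_pow_mod _ hg, ← pow_succ', show i + (n - 1) + 1 = i + n by omega,
          pow_add, hg, mul_one]
      have := Finset.card_sdiff_add_card_eq_card hOS
      rw [← this, hOcard]
      exact dvd_add hrec dvd_rfl
    · rw [Finset.not_nonempty_iff_eq_empty] at hne; simp [hne]

theorem period_eq_five {g : T} (hg : g ^ 5 = 1) {s : Ω} (hs : g • s ≠ s) : MulAction.period g s = 5 := by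
  rcases (Nat.dvd_prime Nat.prime_five).1 (MulAction.pow_smul_eq_iff_period_dvd.1
    (show g ^ 5 • s = s by rw [hg, one_smul])) with h | h
  · exact absurd (by simpa using MulAction.pow_smul_eq_iff_period_dvd.2 (show MulAction.period g s ∣ 1 by rw [h]) :
      g • s = s) hs
  · exact h

theorem period_eq_two {g : T} (hg : g ^ 2 = 1) {s : Ω} (hs : g • s ≠ s) : MulAction.period g s = 2 := by
  rcases (Nat.dvd_prime Nat.prime_two).1 (MulAction.pow_smul_eq_iff_period_dvd.1
    (show g ^ 2 • s = s by rw [hg, one_smul])) with h | h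
  · exact absurd (by simpa using MulAction.pow_smul_eq_iff_period_dvd.2 (show MulAction.period g s ∣ 1 by rw [h]) :
      g • s = s) hs
  · exact h

theorem period_eq_sixteen {g : T} (hg : g ^ 16 = 1) {s : Ω} (hs : g ^ 8 • s ≠ s) :
    MulAction.period g s = 16 := by
  obtain ⟨k, hk, e⟩ := (Nat.dvd_prime_pow Nat.prime_two).1 (MulAction.pow_smul_eq_iff_period_dvd.1
    (show g ^ (2 ^ 4) • s = s by norm_num [hg]))
  have : ¬ k ≤ 3 := fun h => hs (MulAction.pow_smul_eq_iff_period_dvd.2 (by
    rw [e, show (8 : ℕ) = 2 ^ 3 by norm_num]; exact pow_dvd_pow _ h))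
  rw [e, show k = 4 by omega]
  norm_num

open Classical in
/-- A commuting pair of elements of orders five and two, the second moving exactly sixteen
points, on at most 27 points with the first moving all but at most two. -/
theorem no_commuting (a x : T) (ha : a ^ 5 = 1) (hx : x ^ 16 = 1) (hax : Commute a (x ^ 8))
    (hmove : ∃ s : Ω, x ^ 8 • s ≠ s) (hd : Fintype.card Ω ≤ 27)
    (hf : (Finset.univ.filter fun s : Ω => a • s = s).card ≤ 2) : False := by
  set z := x ^ 8 with hz
  have hz2 : z ^ 2 = 1 := by rw [hz, ← pow_mul, hx]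
  let M : Finset Ω := Finset.univ.filter fun s : Ω => z • s ≠ s
  have hMx : ∀ s ∈ M, x • s ∈ M := by
    intro s hs
    simp only [M, Finset.mem_filter, Finset.mem_univ, true_and] at hs ⊢
    rw [← mul_smul, hz, ← pow_succ, pow_succ', mul_smul]
    exact fun h => hs (MulAction.injective x h)
  have h16 : 16 ∣ M.card := dvd_card_of_free x 16 hx M hMx fun s hs => by
    simp only [M, Finset.mem_filter, Finset.mem_univ, true_and] at hs
    exact period_eq_sixteen hx hs
  have hMpos : 0 < M.card := Finset.card_pos.2 (by
    obtain ⟨s, hs⟩ := hmove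
    exact ⟨s, Finset.mem_filter.2 ⟨Finset.mem_univ _, hs⟩⟩)
  have hMle : M.card ≤ 27 := le_trans (Finset.card_le_univ M) hd
  have hM : M.card = 16 := by omega
  have hza : ∀ s : Ω, z • (a • s) = a • (z • s) := fun s => by rw [← mul_smul, ← mul_smul, hax.eq]
  have h5 : 5 ∣ (M.filter fun s => a • s ≠ s).card := by
    refine dvd_card_of_free a 5 ha _ ?_ fun s hs => period_eq_five ha (Finset.mem_filter.1 hs).2
    intro s hs
    simp only [M, Finset.mem_filter, Finset.mem_univ, true_and] at hs ⊢
    refine ⟨?_, fun h => hs.2 (MulAction.injective a h)⟩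
    rw [hza]
    exact fun h => hs.1 (MulAction.injective a h)
  have h2 : 2 ∣ (M.filter fun s => ¬ a • s ≠ s).card := by
    refine dvd_card_of_free z 2 hz2 _ ?_ fun s hs =>
      period_eq_two hz2 (Finset.mem_filter.1 (Finset.mem_filter.1 hs).1).2
    intro s hs
    simp only [M, Finset.mem_filter, Finset.mem_univ, true_and, not_not] at hs ⊢
    refine ⟨fun h => hs.1 (MulAction.injective z h), ?_⟩
    rw [← hza, hs.2]
  have hle : (M.filter fun s => ¬ a • s ≠ s).card ≤ 2 := by
    refine le_trans (Finset.card_le_card ?_) hf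
    intro s hs
    simp only [Finset.mem_filter, Finset.mem_univ, true_and, not_not] at hs ⊢
    exact hs.2
  have hsum := Finset.card_filter_add_card_filter_not (s := M) (fun s => a • s ≠ s)
  omega

/-- The hom from `C5 × C5` given by two commuting elements of order dividing five. -/
def pairHom (a b : T) (ha : a ^ 5 = 1) (hb : b ^ 5 = 1) (hab : Commute a b) :
    Multiplicative (ZMod 5 × ZMod 5) →* T where
  toFun m := a ^ (m.toAdd.1).val * b ^ (m.toAdd.2).val
  map_one' := by simp
  map_mul' m n := by
    simp only [toAdd_mul, Prod.fst_add, Prod.snd_add, ZMod.val_add]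
    rw [← pow_eq_pow_mod _ ha, ← pow_eq_pow_mod _ hb, pow_add, pow_add]
    have := (hab.pow_pow (n.toAdd.1).val (m.toAdd.2).val).eq
    rw [mul_assoc, mul_assoc, ← mul_assoc (a ^ (n.toAdd.1).val), this, mul_assoc]

open Classical in
/-- No faithful doubly transitive action. -/
theorem not_two_transitive [FaithfulSMul T Ω]
    (hT : Nat.card T = 17971200 ∨ Nat.card T = 35942400) (a b x : T)
    (ha : a ^ 5 = 1) (hb : b ^ 5 = 1) (hab : Commute a b) (ha1 : a ≠ 1) (hx : x ^ 16 = 1)
    (hx8 : x ^ 8 ≠ 1) (hax : Commute a (x ^ 8))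
    (hconj : ∀ i j : ℕ, i < 5 → j < 5 → (i ≠ 0 ∨ j ≠ 0) →
      ∃ (g : T) (k : ℕ), k % 5 ≠ 0 ∧ g⁻¹ * a ^ k * g = a ^ i * b ^ j)
    (h3 : 3 ≤ Fintype.card Ω) : ¬ MulAction.IsMultiplyPretransitive T Ω 2 := by
  intro h2
  have := h2
  have : MulAction.IsPretransitive T Ω := MulAction.isPretransitive_of_is_two_pretransitive
  set d := Fintype.card Ω with hd
  obtain ⟨ω, ω', hne⟩ := Fintype.one_lt_card_iff.1 (show 1 < Fintype.card Ω by omega)
  have hdN : Nat.card Ω = d := Nat.card_eq_fintype_card
  have hidx : (stabilizer T ω).index = d := by rw [MulAction.index_stabilizer_of_transitive, hdN]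
  have hset : ({ω, ω'} : Set Ω).ncard = 2 := Set.ncard_pair hne
  have : MulAction.IsMultiplyPretransitive T Ω ({ω, ω'} : Set Ω).ncard := by rw [hset]; exact h2
  have h2idx := MulAction.IsMultiplyPretransitive.index_of_fixingSubgroup_eq (G := T) ({ω, ω'} : Set Ω)
  rw [hset, hdN] at h2idx
  have hdd : d * (d - 1) ∣ 35942400 := by
    have h := Subgroup.index_dvd_card (fixingSubgroup T ({ω, ω'} : Set Ω))
    rw [h2idx h2, Nat.choose_two_right, Nat.factorial_two,
      Nat.div_mul_cancel (Nat.even_mul_pred_self d).two_dvd] at h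
    rcases hT with e | e <;> rw [e] at h
    · exact h.trans (by norm_num)
    · exact h
  have hfact : 17971200 ∣ d.factorial := by
    have hinj : Function.Injective (MulAction.toPermHom T Ω) := MulAction.toPerm_injective
    have h := Subgroup.card_dvd_of_injective _ hinj
    rw [Nat.card_perm, hdN] at h
    rcases hT with e | e <;> rw [e] at h
    · exact h
    · exact (by norm_num : (17971200 : ℕ) ∣ 35942400).trans h
  have hdeg := degrees h3 hdd hfact
  -- all nontrivial elements of the group of order 25 fix equally many points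
  let ψ := pairHom a b ha hb hab
  let fx : T → Finset Ω := fun g => Finset.univ.filter fun s => g • s = s
  set f := (fx a).card with hfdef
  have hpow : ∀ k, k % 5 ≠ 0 → fx (a ^ k) = fx a := by
    intro k hk
    ext s
    simp only [fx, Finset.mem_filter, Finset.mem_univ, true_and]
    constructor
    · intro h
      have h5 : MulAction.period a s ∣ 5 := MulAction.pow_smul_eq_iff_period_dvd.1 (by rw [ha, one_smul])
      rcases (Nat.dvd_prime Nat.prime_five).1 h5 with e | e
      · simpa using MulAction.pow_smul_eq_iff_period_dvd.2 (show MulAction.period a s ∣ 1 by rw [e])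
      · have := MulAction.pow_smul_eq_iff_period_dvd.1 h
        rw [e] at this
        omega
    · intro h
      have h1 : MulAction.period a s ∣ 1 := MulAction.pow_smul_eq_iff_period_dvd.1 (by simpa using h)
      exact MulAction.pow_smul_eq_iff_period_dvd.2 (h1.trans (one_dvd k))
  have hψ : ∀ m : Multiplicative (ZMod 5 × ZMod 5), m ≠ 1 → (fx (ψ m)).card = f := by
    intro m hm
    obtain ⟨g, k, hk, e⟩ := hconj (m.toAdd.1).val (m.toAdd.2).val (ZMod.val_lt _) (ZMod.val_lt _) (by
      by_contra hc
      simp only [ne_eq, not_or, not_not, ZMod.val_eq_zero] at hc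
      exact hm (Multiplicative.toAdd.injective (Prod.ext hc.1 hc.2)))
    have e' : ψ m = g⁻¹ * a ^ k * g := e.symm
    rw [e', hfdef, ← hpow k hk]
    refine Finset.card_bij (fun s _ => g • s) ?_ (fun s _ t _ h => MulAction.injective g h) ?_
    · intro s hs
      simp only [fx, Finset.mem_filter, Finset.mem_univ, true_and, mul_smul] at hs ⊢
      exact inv_smul_eq_iff.1 hs
    · intro t ht
      refine ⟨g⁻¹ • t, ?_, smul_inv_smul g t⟩
      simp only [fx, Finset.mem_filter, Finset.mem_univ, true_and, mul_smul, smul_inv_smul] at ht ⊢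
      rw [ht]
  have hflt : f < d := by
    refine lt_of_le_of_ne (Finset.card_le_univ _) fun h => ha1 ?_
    have : fx a = Finset.univ := Finset.eq_univ_of_card _ h
    refine FaithfulSMul.eq_of_smul_eq_smul (α := Ω) fun s => ?_
    rw [one_smul]
    exact (Finset.mem_filter.1 (this ▸ Finset.mem_univ s : s ∈ fx a)).2
  have hψinj : Function.Injective ψ := by
    rw [injective_iff_map_eq_one]
    intro m hm
    by_contra h
    have := hψ m h
    rw [hm, show fx 1 = Finset.univ by ext s; simp [fx], Finset.card_univ] at this
    omega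
  letI : MulAction (Multiplicative (ZMod 5 × ZMod 5)) Ω := MulAction.compHom Ω ψ
  have hcM : Fintype.card (Multiplicative (ZMod 5 × ZMod 5)) = 25 := by
    simp [Fintype.card_multiplicative, ZMod.card]
  have hsum : ∑ m : Multiplicative (ZMod 5 × ZMod 5), (fx (ψ m)).card = d + 24 * f := by
    rw [← Finset.add_sum_erase _ _ (Finset.mem_univ 1), Finset.sum_congr rfl (g := fun _ => f)
      (fun m hm => hψ m (Finset.mem_erase.1 hm).1), Finset.sum_const, Finset.card_erase_of_mem
      (Finset.mem_univ _), Finset.card_univ, hcM, smul_eq_mul]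
    rw [map_one, show fx 1 = Finset.univ by ext s; simp [fx], Finset.card_univ]
  have h25 : 25 ∣ d + 24 * f := by
    have h := MulAction.sum_card_fixedBy_eq_card_orbits_mul_card_group
      (Multiplicative (ZMod 5 × ZMod 5)) Ω
    rw [hcM, Finset.sum_congr rfl (g := fun m => (fx (ψ m)).card) fun m _ => ?_, hsum] at h
    · rw [h]; exact dvd_mul_left _ _
    · rw [Fintype.card_subtype]; rfl
  have hnofix : d = 40 ∨ d = 65 → 6 * f ≤ d := by
    intro hd'
    have hcount : ∑ m : Multiplicative (ZMod 5 × ZMod 5), (fx (ψ m)).card =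
        ∑ s : Ω, (Finset.univ.filter fun m => ψ m • s = s).card := by
      simp only [fx, Finset.card_filter]
      exact Finset.sum_comm
    have hle : ∀ s : Ω, (Finset.univ.filter fun m => ψ m • s = s).card ≤ 5 := by
      intro s
      have hK : (Finset.univ.filter fun m => ψ m • s = s).card =
          Nat.card ↥((stabilizer T s).comap ψ) := by
        rw [Nat.card_eq_fintype_card, ← Fintype.card_subtype]
        exact Fintype.card_congr (Equiv.subtypeEquivRight fun m => Iff.rfl)
      rw [hK]
      have hdvd := Subgroup.card_subgroup_dvd_card ((stabilizer T s).comap ψ)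
      rw [Nat.card_eq_fintype_card (α := Multiplicative (ZMod 5 × ZMod 5)), hcM] at hdvd
      obtain ⟨k, hk, e⟩ := (Nat.dvd_prime_pow Nat.prime_five).1
        (show Nat.card ↥((stabilizer T s).comap ψ) ∣ 5 ^ 2 by rw [show (5 : ℕ) ^ 2 = 25 from rfl]; exact hdvd)
      rcases (show k ≤ 1 ∨ k = 2 by omega) with hk1 | rfl
      · rw [e]; exact (Nat.pow_le_pow_right (by norm_num) hk1).trans (by norm_num)
      exfalso
      have hmap : Nat.card ↥(((stabilizer T s).comap ψ).map ψ) = 25 := by
        rw [← Nat.card_congr (((stabilizer T s).comap ψ).equivMapOfInjective ψ hψinj).toEquiv, e]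
        norm_num
      have h25s : 25 ∣ Nat.card ↥(stabilizer T s) :=
        hmap ▸ Subgroup.card_dvd_of_le (Subgroup.map_comap_le _ _)
      have hcard := Subgroup.card_mul_index (stabilizer T s)
      rw [MulAction.index_stabilizer_of_transitive, hdN] at hcard
      obtain ⟨c, hc⟩ := h25s
      rw [hc] at hcard
      rcases hT with h | h <;> rw [h] at hcard <;> rcases hd' with h' | h' <;> rw [h'] at hcard <;> omega
    have : ∑ s : Ω, (Finset.univ.filter fun m => ψ m • s = s).card ≤ ∑ _s : Ω, 5 :=
      Finset.sum_le_sum fun s _ => hle s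
    rw [← hcount, hsum] at this
    rw [Finset.sum_const, Finset.card_univ, smul_eq_mul, ← hd] at this
    omega
  have hmove : ∃ s : Ω, x ^ 8 • s ≠ s := by
    by_contra hc
    simp only [not_exists, not_not] at hc
    exact hx8 (FaithfulSMul.eq_of_smul_eq_smul (α := Ω) fun s => by rw [one_smul]; exact hc s)
  have hcomm := fun (h1 : d ≤ 27) (h2 : f ≤ 2) => no_commuting a x ha hx hax hmove (hd ▸ h1) h2
  rcases hdeg with h | h | h | h | h | h
  · omega
  · exact hcomm (by omega) (by omega)
  · exact hcomm (by omega) (by omega)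
  · exact hcomm (by omega) (by omega)
  · have := hnofix (Or.inl h); omega
  · have := hnofix (Or.inr h); omega

end Cfsg.Agent.Lib.LAEven56.TitsAction
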